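import Cfsg.Agent.Lib.Small.Gram.Basic
import Cfsg.Agent.Lib.Small.FormDisc
import Cfsg.Agent.Lib.Small.QuadModels
import Cfsg.Agent.Lib.Small.SymplecticClasses
import Cfsg.Agent.Lib.Classical.SymplecticIso
import Cfsg.Agent.Lib.Classical.OrthClosed

/-!
# Symmetric and alternating Gram matrices over finite fields: standard forms and multipliers
-/

set_option autoImplicit false
set_option linter.unusedSectionVars false

namespace Cfsg.Agent.Small.Gram

open Matrix Module Cfsg.Agent.Small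

universe u

variable {F : Type u} [Field F] {ι κ : Type} [Fintype ι] [DecidableEq ι] [Fintype κ] [DecidableEq κ]

theorem dot_symm {X : Matrix ι ι F} (hs : Xᵀ = X) (u v : ι → F) : u ⬝ᵥ X *ᵥ v = v ⬝ᵥ X *ᵥ u := by
  conv_rhs => rw [Matrix.dotProduct_mulVec, ← hs, Matrix.vecMul_transpose, dotProduct_comm]

theorem sim_iff_dot {B : Matrix ι ι F} {g : GL ι F} {c : F} :
    g.valᵀ * B * g.val = c • B ↔ ∀ u v, (g.val *ᵥ u) ⬝ᵥ B *ᵥ (g.val *ᵥ v) = c * (u ⬝ᵥ B *ᵥ v) := by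
  constructor
  · intro h u v
    rw [← dot_gram, h, Matrix.smul_mulVec, dotProduct_smul, smul_eq_mul]
  · intro h
    refine mat_ext_dot fun u v => ?_
    rw [dot_gram, h, Matrix.smul_mulVec, dotProduct_smul, smul_eq_mul]

theorem similarity_eq {f : (ι → F) → (ι → F) → F} {B : Matrix ι ι F} (hf : ∀ u v, f u v = u ⬝ᵥ B *ᵥ v) :
    Cfsg.Geo.similarityGroup f = Sim B := by
  ext g
  refine exists_congr fun c => ?_
  rw [sim_iff_dot]
  simp only [hf]

theorem gsp_eq (m : ℕ) : Cfsg.GSp m F = Sim (Matrix.J (Fin m) F) := similarity_eq fun _ _ => rfl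

/-! ### Quadratic forms with a given polar matrix -/

theorem two_value {q : (ι → F) → F} {B : Matrix ι ι F} (hB : ∀ u v, QuadraticMap.polar q u v = u ⬝ᵥ B *ᵥ v)
    (hq : ∀ v, q (v + v) = 4 * q v) (v : ι → F) : v ⬝ᵥ B *ᵥ v = 2 * q v := by
  rw [← hB, QuadraticMap.polar, hq]
  ring

theorem quad_iff (h2 : (2 : F) ≠ 0) {q : (ι → F) → F} {B : Matrix ι ι F}
    (hB : ∀ u v, QuadraticMap.polar q u v = u ⬝ᵥ B *ᵥ v) (hq : ∀ v, q (v + v) = 4 * q v) (g : GL ι F) (c : F) :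
    (∀ v, q (g.val *ᵥ v) = c * q v) ↔ g.valᵀ * B * g.val = c • B := by
  rw [sim_iff_dot]
  constructor
  · intro h u v
    rw [← hB, ← hB, QuadraticMap.polar, QuadraticMap.polar, ← Matrix.mulVec_add, h, h, h]
    ring
  · intro h v
    have e := h v v
    rw [two_value hB hq, two_value hB hq] at e
    exact mul_left_cancel₀ h2 (by linear_combination e)

theorem quadSim_eq (h2 : (2 : F) ≠ 0) {q : (ι → F) → F} {B : Matrix ι ι F}
    (hB : ∀ u v, QuadraticMap.polar q u v = u ⬝ᵥ B *ᵥ v) (hq : ∀ v, q (v + v) = 4 * q v) :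
    Cfsg.Geo.quadSimilarityGroup q = Sim B := by
  ext g
  exact exists_congr fun c => quad_iff h2 hB hq g c

theorem isometry_eq (h2 : (2 : F) ≠ 0) {q : (ι → F) → F} {B : Matrix ι ι F}
    (hB : ∀ u v, QuadraticMap.polar q u v = u ⬝ᵥ B *ᵥ v) (hq : ∀ v, q (v + v) = 4 * q v) :
    Cfsg.isometryGroup F q = Iso B := by
  ext g
  change (∀ u _v : ι → F, q (g.val *ᵥ u) = q u) ↔ g.valᵀ * B * g.val = B
  have h := quad_iff h2 hB hq g 1
  simp only [one_mul, one_smul] at h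
  rw [← h]
  exact ⟨fun e v => e v v, fun e u _ => e u⟩

theorem plus_quad (m : ℕ) (v : Fin m ⊕ Fin m → F) :
    Cfsg.quadFormPlus m F (v + v) = 4 * Cfsg.quadFormPlus m F v := by
  simp only [Cfsg.quadFormPlus, Pi.add_apply, Finset.mul_sum]
  exact Finset.sum_congr rfl fun i _ => by ring

theorem minus_quad (k : ℕ) (a c : F) (v : (Fin k ⊕ Fin k) ⊕ Fin 2 → F) :
    Cfsg.quadFormMinus k F a c (v + v) = 4 * Cfsg.quadFormMinus k F a c v := by
  simp only [Cfsg.quadFormMinus, Pi.add_apply, mul_add, Finset.mul_sum]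
  refine congrArg₂ (· + ·) (Finset.sum_congr rfl fun i _ => by ring) ?_
  ring

/-- The matrix of the polar form of the parabolic form. -/
def Jodd (F : Type*) [Field F] (m : ℕ) : Matrix (Unit ⊕ (Fin m ⊕ Fin m)) (Unit ⊕ (Fin m ⊕ Fin m)) F :=
  Matrix.fromBlocks ((2 : F) • 1) 0 0 (FormDisc.Jplus F m)

theorem polar_odd (m : ℕ) (u v : Unit ⊕ (Fin m ⊕ Fin m) → F) :
    QuadraticMap.polar (Cfsg.quadFormOdd m F) u v = u ⬝ᵥ Jodd F m *ᵥ v := by
  have h := FormDisc.polar_plus m (u ∘ Sum.inr) (v ∘ Sum.inr)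
  simp only [QuadraticMap.polar, Cfsg.quadFormPlus, Pi.add_apply, Function.comp_apply] at h
  rw [Jodd, Matrix.fromBlocks_mulVec, dotProduct, Fintype.sum_sum_type]
  simp only [Sum.elim_inl, Sum.elim_inr, Matrix.zero_mulVec, add_zero, zero_add]
  simp only [dotProduct, Function.comp_apply] at h
  rw [← h]
  simp only [QuadraticMap.polar, Cfsg.quadFormOdd, Pi.add_apply, Matrix.smul_mulVec, Matrix.one_mulVec,
    Pi.smul_apply, Function.comp_apply, smul_eq_mul, Finset.univ_unique, Finset.sum_singleton, PUnit.default_eq_unit]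
  ring

theorem odd_quad (m : ℕ) (v : Unit ⊕ (Fin m ⊕ Fin m) → F) :
    Cfsg.quadFormOdd m F (v + v) = 4 * Cfsg.quadFormOdd m F v := by
  simp only [Cfsg.quadFormOdd, Pi.add_apply, mul_add, Finset.mul_sum]
  refine congrArg₂ (· + ·) ?_ (Finset.sum_congr rfl fun i _ => by ring)
  ring

theorem det_Jodd (h2 : (2 : F) ≠ 0) (m : ℕ) : IsUnit (Jodd F m).det := by
  rw [Jodd, Matrix.det_fromBlocks_zero₂₁, Matrix.det_smul, Matrix.det_one, mul_one, FormDisc.det_Jplus]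
  exact (mul_ne_zero (pow_ne_zero _ h2) (pow_ne_zero _ (neg_ne_zero.2 one_ne_zero))).isUnit

theorem det_plus_unit (m : ℕ) : IsUnit (FormDisc.Jplus F m).det := by
  rw [FormDisc.det_Jplus]
  exact (pow_ne_zero _ (neg_ne_zero.2 one_ne_zero)).isUnit

theorem disc_nonsquare (h2 : (2 : F) ≠ 0) {a c : F}
    (hac : ∀ z₁ z₂ : F, z₁ ^ 2 + a * z₁ * z₂ + c * z₂ ^ 2 = 0 → z₁ = 0 ∧ z₂ = 0) :
    ¬ IsSquare (a * a - 4 * c) := by
  rintro ⟨w, hw⟩
  refine one_ne_zero (α := F) (hac ((-a + w) / 2) 1 ?_).2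
  field_simp
  linear_combination -hw

theorem det_minus_unit (h2 : (2 : F) ≠ 0) (k : ℕ) {a c : F}
    (hac : ∀ z₁ z₂ : F, z₁ ^ 2 + a * z₁ * z₂ + c * z₂ ^ 2 = 0 → z₁ = 0 ∧ z₂ = 0) :
    IsUnit (FormDisc.Jminus F k a c).det := by
  rw [FormDisc.det_Jminus]
  refine (mul_ne_zero (pow_ne_zero _ (neg_ne_zero.2 one_ne_zero)) fun h => disc_nonsquare h2 hac ⟨0, ?_⟩).isUnit
  linear_combination -h

/-! ### Normal forms -/

/-- A symmetric matrix as a quadratic form. -/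
noncomputable def toQ (B : Matrix ι ι F) : QuadraticForm F (ι → F) :=
  LinearMap.BilinMap.toQuadraticMap (Matrix.toLinearMap₂' F B)

theorem toQ_apply (B : Matrix ι ι F) (v : ι → F) : toQ B v = v ⬝ᵥ B *ᵥ v := by
  rw [toQ, LinearMap.BilinMap.toQuadraticMap_apply, Matrix.toLinearMap₂'_apply']

theorem polar_toQ {B : Matrix ι ι F} (hs : Bᵀ = B) (u v : ι → F) :
    QuadraticMap.polar (toQ B) u v = 2 * (u ⬝ᵥ B *ᵥ v) := by
  rw [toQ, LinearMap.BilinMap.polar_toQuadraticMap, Matrix.toLinearMap₂'_apply', Matrix.toLinearMap₂'_apply',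
    dot_symm hs v u]
  ring

theorem toQ_nondeg (h2 : (2 : F) ≠ 0) {B : Matrix ι ι F} (hs : Bᵀ = B) (hB : IsUnit B.det) :
    (QuadraticMap.polarBilin (toQ B)).Nondegenerate := by
  refine QuadModels.nondegenerate fun u hu => ?_
  refine Matrix.eq_zero_of_vecMul_eq_zero hB.ne_zero (funext fun j => ?_)
  have h : QuadraticMap.polar (toQ B) u (Pi.single j 1) = 0 := hu _
  rw [polar_toQ hs, Matrix.dotProduct_mulVec, dotProduct_single, mul_one] at h
  exact (mul_eq_zero.1 h).resolve_left h2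

theorem gram_of_quad (h2 : (2 : F) ≠ 0) {B : Matrix ι ι F} (hs : Bᵀ = B) (P : Matrix ι κ F)
    {q₀ : (κ → F) → F} {B₀ : Matrix κ κ F} (hB₀ : ∀ u v, QuadraticMap.polar q₀ u v = u ⬝ᵥ B₀ *ᵥ v) (d : F)
    (h : ∀ v, toQ B (P *ᵥ v) = d * q₀ v) : Pᵀ * B * P = (d / 2) • B₀ := by
  refine mat_ext_dot fun u v => ?_
  have e : QuadraticMap.polar (toQ B) (P *ᵥ u) (P *ᵥ v) = d * QuadraticMap.polar q₀ u v := by
    rw [QuadraticMap.polar, QuadraticMap.polar, ← Matrix.mulVec_add, h, h, h]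
    ring
  rw [polar_toQ hs, hB₀] at e
  rw [dot_gram, Matrix.smul_mulVec, dotProduct_smul, smul_eq_mul]
  field_simp
  linear_combination e

theorem sym_even [Fintype F] (h2 : (2 : F) ≠ 0) {B : Matrix ι ι F} (hs : Bᵀ = B) (hB : IsUnit B.det) {m : ℕ}
    (hm : 1 ≤ m) (hι : Fintype.card ι = 2 * m) {a c : F}
    (hac : ∀ z₁ z₂ : F, z₁ ^ 2 + a * z₁ * z₂ + c * z₂ ^ 2 = 0 → z₁ = 0 ∧ z₂ = 0) :
    Model B (FormDisc.Jplus F m) ∨ Model B (FormDisc.Jminus F (m - 1) a c) := by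
  have hV : finrank F (ι → F) = 2 * m := by rw [finrank_fintype_fun_eq_card, hι]
  rcases QuadModels.even_model (toQ B) hm hV (toQ_nondeg h2 hs hB) a c hac with ⟨L, hL⟩ | ⟨L, hL⟩
  · refine .inl (model_of_gram (LinearMap.toMatrix' L.toLinearMap) (one_div_ne_zero h2)
      (gram_of_quad h2 hs _ (FormDisc.polar_plus m) 1 fun v => ?_) (det_plus_unit m)
      (by rw [hι, Fintype.card_sum, Fintype.card_fin]; ring))
    rw [LinearMap.toMatrix'_mulVec, one_mul]
    exact hL v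
  · refine .inr (model_of_gram (LinearMap.toMatrix' L.toLinearMap) (one_div_ne_zero h2)
      (gram_of_quad h2 hs _ (FormDisc.polar_minus (m - 1) a c) 1 fun v => ?_) (det_minus_unit h2 _ hac)
      (by rw [hι, Fintype.card_sum, Fintype.card_sum, Fintype.card_fin, Fintype.card_fin]; omega))
    rw [LinearMap.toMatrix'_mulVec, one_mul]
    exact hL v

theorem sym_odd [Fintype F] (h2 : (2 : F) ≠ 0) {B : Matrix ι ι F} (hs : Bᵀ = B) (hB : IsUnit B.det) {m : ℕ}
    (hι : Fintype.card ι = 2 * m + 1) : Model B (Jodd F m) := by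
  have hV : finrank F (ι → F) = 2 * m + 1 := by rw [finrank_fintype_fun_eq_card, hι]
  obtain ⟨d, L, hd, hL⟩ := QuadModels.odd_model (toQ B) hV (toQ_nondeg h2 hs hB)
  refine model_of_gram (LinearMap.toMatrix' L.toLinearMap) (div_ne_zero hd h2)
    (gram_of_quad h2 hs _ (polar_odd m) d fun v => ?_) (det_Jodd h2 m) (by simp [hι]; ring)
  rw [LinearMap.toMatrix'_mulVec]
  exact hL v

theorem alt_model {B : Matrix ι ι F} (ha : ∀ v, v ⬝ᵥ B *ᵥ v = 0) (hB : IsUnit B.det) {m : ℕ}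
    (hι : Fintype.card ι = 2 * m) : Model B (Matrix.J (Fin m) F) := by
  have halt : Classical.SpCount.IsAltND (Matrix.toLinearMap₂' F B) :=
    ⟨fun v => by rw [Matrix.toLinearMap₂'_apply']; exact ha v,
      fun u hu => Matrix.eq_zero_of_vecMul_eq_zero hB.ne_zero (funext fun j => by
        have h := hu (Pi.single j 1)
        rw [Matrix.toLinearMap₂'_apply', Matrix.dotProduct_mulVec, dotProduct_single, mul_one] at h
        exact h)⟩
  obtain ⟨f⟩ := Classical.SpCount.exists_fam m halt (by rw [finrank_fintype_fun_eq_card, hι])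
  refine model_of_gram (Matrix.of fun i j => f.1 j i) one_ne_zero ?_ (Matrix.isUnit_det_J _ _)
    (by rw [hι, Fintype.card_sum, Fintype.card_fin]; ring)
  rw [one_smul]
  ext i j
  have h := f.2 i j
  rw [Matrix.toLinearMap₂'_apply'] at h
  rw [← h, Matrix.mul_assoc, Matrix.mul_apply_eq_vecMul]
  rfl

/-! ### Multipliers and determinants -/

theorem det_sq_of_sim {B : Matrix ι ι F} (hB : IsUnit B.det) {g : GL ι F} {c : F}
    (hg : g.valᵀ * B * g.val = c • B) :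
    (Matrix.GeneralLinearGroup.det g : F) ^ 2 = c ^ Fintype.card ι := by
  have h := congrArg Matrix.det hg
  rw [Matrix.det_mul, Matrix.det_mul, Matrix.det_transpose, Matrix.det_smul] at h
  rw [Matrix.GeneralLinearGroup.val_det_apply]
  exact mul_right_cancel₀ hB.ne_zero (by linear_combination h)

/-- `diag(c, 1)`. -/
def dC (m : ℕ) (c : F) : Matrix (Fin m ⊕ Fin m) (Fin m ⊕ Fin m) F := Matrix.fromBlocks (c • 1) 0 0 1

theorem dC_spec (m : ℕ) (c : F) :
    (dC m c)ᵀ * Matrix.J (Fin m) F * dC m c = c • Matrix.J (Fin m) F := by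
  simp [dC, Matrix.J, Matrix.fromBlocks_transpose, Matrix.fromBlocks_multiply, Matrix.fromBlocks_smul]

theorem det_dC (m : ℕ) (c : F) : (dC m c).det = c ^ m := by
  rw [dC, Matrix.det_fromBlocks_zero₂₁, Matrix.det_smul, Matrix.det_one, Fintype.card_fin, mul_one, mul_one]

theorem sim_J_mult (m : ℕ) (c : Fˣ) :
    ∃ g : GL (Fin m ⊕ Fin m) F, g.valᵀ * Matrix.J (Fin m) F * g.val = (c : F) • Matrix.J (Fin m) F ∧
      Matrix.GeneralLinearGroup.det g = c ^ m := by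
  have hu : IsUnit (dC m (c : F)).det := by rw [det_dC]; exact c.isUnit.pow _
  refine ⟨Matrix.nonsingInvUnit (dC m (c : F)) hu, dC_spec m (c : F), Units.ext ?_⟩
  rw [Matrix.GeneralLinearGroup.val_det_apply, Units.val_pow_eq_pow_val]
  exact det_dC m (c : F)

theorem det_image_J (m : ℕ) :
    (Sim (Matrix.J (Fin m) F)).map
        (Matrix.GeneralLinearGroup.det : GL (Fin m ⊕ Fin m) F →* Fˣ) = (powMonoidHom m : Fˣ →* Fˣ).range := by
  apply le_antisymm
  · rintro _ ⟨g, ⟨c, hc⟩, rfl⟩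
    obtain ⟨d, hd, hdd⟩ := sim_J_mult (F := F) m c⁻¹
    have hi : (g * d).valᵀ * Matrix.J (Fin m) F * (g * d).val = Matrix.J (Fin m) F := by
      rw [Units.val_mul, gram_mul, hc, Matrix.mul_smul, Matrix.smul_mul, hd, smul_smul, ← Units.val_mul,
        mul_inv_cancel, Units.val_one, one_smul]
    have h1 := SymplecticClasses.det_eq_one ⟨(g * d).val, SymplecticGroup.mem_iff'.2 hi⟩
    rw [← Matrix.GeneralLinearGroup.val_det_apply, Units.val_eq_one, map_mul, hdd, inv_pow] at h1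
    exact ⟨c, (mul_inv_eq_one.1 h1).symm⟩
  · rintro _ ⟨c, rfl⟩
    obtain ⟨g, hg, hgd⟩ := sim_J_mult (F := F) m c
    exact ⟨g, ⟨c, hg⟩, hgd⟩

theorem exists_similitude [Fintype F] (h2 : (2 : F) ≠ 0) {B : Matrix ι ι F} (hs : Bᵀ = B) (hB : IsUnit B.det)
    {m : ℕ} (hm : 1 ≤ m) (hι : Fintype.card ι = 2 * m) (c : Fˣ) :
    ∃ g : GL ι F, g.valᵀ * B * g.val = (c : F) • B := by
  obtain ⟨L, hL⟩ := QuadBasis.similarity (toQ B) hm (by rw [finrank_fintype_fun_eq_card, hι])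
    (toQ_nondeg h2 hs hB) (c : F) c.ne_zero
  have h := gram_of_quad h2 hs (LinearMap.toMatrix' L.toLinearMap) (q₀ := ⇑(toQ B)) (B₀ := (2 : F) • B)
    (fun u v => by rw [polar_toQ hs, Matrix.smul_mulVec, dotProduct_smul, smul_eq_mul]) (c : F)
    fun v => by rw [LinearMap.toMatrix'_mulVec]; exact hL v
  rw [smul_smul, div_mul_cancel₀ (c : F) h2] at h
  have hd : (LinearMap.toMatrix' L.toLinearMap).det ≠ 0 := by
    intro h0
    have e := congrArg Matrix.det h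
    rw [Matrix.det_mul, h0, mul_zero, Matrix.det_smul] at e
    exact mul_ne_zero (pow_ne_zero _ c.ne_zero) hB.ne_zero e.symm
  exact ⟨Matrix.nonsingInvUnit _ hd.isUnit, h⟩

theorem exists_det_neg_one (h2 : (2 : F) ≠ 0) [Nonempty ι] {B : Matrix ι ι F} (hs : Bᵀ = B)
    (hB : IsUnit B.det) :
    ∃ g : GL ι F, g.valᵀ * B * g.val = B ∧ Matrix.GeneralLinearGroup.det g = -1 := by
  obtain ⟨v, hv⟩ : ∃ v, v ⬝ᵥ B *ᵥ v ≠ 0 := by
    by_contra! h
    refine hB.ne_zero ?_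
    have : B = 0 := mat_ext_dot fun u w => by
      have e := h (u + w)
      rw [Matrix.mulVec_add, dotProduct_add, add_dotProduct, add_dotProduct, h, h, dot_symm hs w u] at e
      rw [Matrix.zero_mulVec, dotProduct_zero]
      exact (mul_eq_zero.1 (show 2 * (u ⬝ᵥ B *ᵥ w) = 0 by linear_combination e)).resolve_left h2
    rw [this, Matrix.det_zero]
  obtain ⟨k, hk⟩ : ∃ k : F, k * (v ⬝ᵥ B *ᵥ v) = -2 := ⟨-2 / (v ⬝ᵥ B *ᵥ v), div_mul_cancel₀ _ hv⟩
  set R : Matrix ι ι F :=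
    1 + Matrix.replicateCol Unit (k • v) * Matrix.replicateRow Unit (B *ᵥ v) with hR
  have hdet : R.det = -1 := by
    rw [hR, Matrix.det_one_add_replicateCol_mul_replicateRow, dotProduct_smul, dotProduct_comm, smul_eq_mul, hk]
    ring
  have hmv : ∀ x, R *ᵥ x = x + ((B *ᵥ v) ⬝ᵥ x * k) • v := fun x => by
    funext i
    rw [hR, Matrix.add_mulVec, Matrix.one_mulVec, Pi.add_apply, Pi.add_apply, ← Matrix.mulVec_mulVec]
    simp [Matrix.mulVec, dotProduct, Matrix.replicateCol, Matrix.replicateRow]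
    ring
  refine ⟨Matrix.nonsingInvUnit R (by rw [hdet]; exact isUnit_one.neg), ?_, ?_⟩
  · refine mat_ext_dot fun x y => ?_
    rw [dot_gram]
    show (R *ᵥ x) ⬝ᵥ B *ᵥ (R *ᵥ y) = _
    rw [hmv, hmv, dotProduct_comm (B *ᵥ v) x, dotProduct_comm (B *ᵥ v) y]
    simp only [Matrix.mulVec_add, Matrix.mulVec_smul, dotProduct_add, add_dotProduct, dotProduct_smul,
      smul_dotProduct, smul_eq_mul, dot_symm hs v y]
    linear_combination (x ⬝ᵥ B *ᵥ v) * (y ⬝ᵥ B *ᵥ v) * k * hk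
  · exact Units.ext hdet

theorem det_image_sym [Fintype F] (h2 : (2 : F) ≠ 0) {B : Matrix ι ι F} (hs : Bᵀ = B) (hB : IsUnit B.det)
    {m : ℕ} (hm : 1 ≤ m) (hι : Fintype.card ι = 2 * m) :
    (Sim B).map (Matrix.GeneralLinearGroup.det : GL ι F →* Fˣ) =
      Subgroup.zpowers (-1 : Fˣ) ⊔ (powMonoidHom m : Fˣ →* Fˣ).range := by
  haveI : Nonempty ι := Fintype.card_pos_iff.1 (by omega)
  have hsign : ∀ (g : GL ι F) (c : Fˣ), g.valᵀ * B * g.val = (c : F) • B →
      Matrix.GeneralLinearGroup.det g = c ^ m ∨ Matrix.GeneralLinearGroup.det g = -1 * c ^ m := fun g c hg => by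
    have h := det_sq_of_sim hB hg
    rw [hι, two_mul, pow_add, pow_two] at h
    rcases mul_self_eq_mul_self_iff.1 h with h | h
    · exact .inl (Units.ext (by rw [h, Units.val_pow_eq_pow_val]))
    · exact .inr (Units.ext (by rw [h, Units.val_mul, Units.val_neg, Units.val_one,
        Units.val_pow_eq_pow_val, neg_one_mul]))
  apply le_antisymm
  · rintro _ ⟨g, ⟨c, hc⟩, rfl⟩
    rcases hsign g c hc with h | h <;> rw [h]
    · exact Subgroup.mem_sup_right ⟨c, rfl⟩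
    · exact mul_mem (Subgroup.mem_sup_left (Subgroup.mem_zpowers _)) (Subgroup.mem_sup_right ⟨c, rfl⟩)
  · obtain ⟨r, hr, hrd⟩ := exists_det_neg_one h2 hs hB
    refine sup_le (Subgroup.zpowers_le.2 ⟨r, iso_le_sim B hr, hrd⟩) ?_
    rintro _ ⟨c, rfl⟩
    obtain ⟨g, hg⟩ := exists_similitude h2 hs hB hm hι c
    rcases hsign g c hg with h | h
    · exact ⟨g, ⟨c, hg⟩, h⟩
    · refine ⟨r * g, mul_mem (iso_le_sim B hr) ⟨c, hg⟩, ?_⟩
      rw [map_mul, hrd, h, ← mul_assoc, neg_one_mul, neg_neg, one_mul]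
      rfl

/-! ### Orders -/

theorem isoJ_equiv (m : ℕ) :
    Nonempty (↥(Iso (Matrix.J (Fin m) F)) ≃* ↥(Matrix.symplecticGroup (Fin m) F)) := by
  let φ : ↥(Iso (Matrix.J (Fin m) F)) →* ↥(Matrix.symplecticGroup (Fin m) F) :=
    MonoidHom.mk' (fun g => ⟨g.1.val, SymplecticGroup.mem_iff'.2 g.2⟩) fun _ _ => rfl
  refine ⟨MulEquiv.ofBijective φ ⟨fun g h e => Subtype.ext (Units.ext (congrArg Subtype.val e)), fun A => ?_⟩⟩
  have hd : (A.1).det ≠ 0 := by rw [SymplecticClasses.det_eq_one A]; exact one_ne_zero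
  exact ⟨⟨Matrix.nonsingInvUnit A.1 hd.isUnit, SymplecticGroup.mem_iff'.1 A.2⟩, Subtype.ext rfl⟩

theorem card_pgsp [Fintype F] {m : ℕ} (hm : 1 ≤ m) :
    Nat.card (Cfsg.PGSp m F) = Fintype.card F ^ (m ^ 2) *
      ∏ i ∈ Finset.range m, (Fintype.card F ^ (2 * (i + 1)) - 1) := by
  haveI : Nonempty (Fin m ⊕ Fin m) := ⟨.inl ⟨0, hm⟩⟩
  obtain ⟨e⟩ := isoJ_equiv (F := F) m
  rw [Cfsg.PGSp, gsp_eq, card_projQuot_sim (Matrix.isUnit_det_J _ _) fun c => ?_, Nat.card_congr e.toEquiv,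
    Classical.SpCount.card_symplecticGroup]
  obtain ⟨g, hg, -⟩ := sim_J_mult (F := F) m c
  exact ⟨g, hg⟩

theorem coprime_prod (q : ℕ) (hq : 2 ≤ q) (j : ℕ) :
    Nat.Coprime q (∏ i ∈ Finset.range j, (q ^ (2 * (i + 1)) - 1)) :=
  Nat.Coprime.prod_right fun i _ => by
    refine Nat.Coprime.symm ?_
    have h := Nat.pow_dvd_pow q (show 1 ≤ 2 * (i + 1) by omega)
    rw [pow_one] at h
    refine Nat.coprime_of_dvd' fun d _ hd1 hd2 => ?_
    have h1 : 1 ≤ q ^ (2 * (i + 1)) := Nat.one_le_pow _ _ (by omega)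
    have h2 := Nat.dvd_sub (hd2.trans h) hd1
    rwa [Nat.sub_sub_self h1] at h2

theorem not_sp_count {q : ℕ} (hq : Odd q) (hq2 : 2 ≤ q) (m : ℕ) (hm : 1 ≤ m) (X Y : ℕ) (hX : Nat.Coprime q X) :
    2 * q ^ (m * (m - 1)) * X ≠ q ^ (m ^ 2) * Y := by
  intro h
  have e : m ^ 2 = m * (m - 1) + m := by
    obtain ⟨k, rfl⟩ : ∃ k, m = k + 1 := ⟨m - 1, by omega⟩
    simp; ring
  rw [e, pow_add, show 2 * q ^ (m * (m - 1)) * X = q ^ (m * (m - 1)) * (2 * X) by ring, mul_assoc] at h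
  have h' := Nat.eq_of_mul_eq_mul_left (pow_pos (show 0 < q by omega) _) h
  have hd : q ∣ 2 * X := by
    rw [h']
    exact (dvd_pow_self q (by omega)).mul_right _
  have hc : Nat.Coprime q (2 * X) := Nat.Coprime.mul_right (Nat.coprime_two_right.2 hq) hX
  have := Nat.Coprime.eq_one_of_dvd hc hd
  omega

theorem card_orth_plus_ne [Fintype F] (hodd : Odd (Fintype.card F)) {m : ℕ} (hm : 1 ≤ m) :
    Nat.card (Cfsg.projQuot (Sim (FormDisc.Jplus F m))) ≠ Nat.card (Cfsg.PGSp m F) := by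
  have h2 := FormDisc.two_ne rfl hodd (F := F)
  haveI : Nonempty (Fin m ⊕ Fin m) := ⟨.inl ⟨0, hm⟩⟩
  have hsym : (FormDisc.Jplus F m)ᵀ = FormDisc.Jplus F m := by
    simp [FormDisc.Jplus, Matrix.fromBlocks_transpose]
  rw [card_projQuot_sim (det_plus_unit m)
    (exists_similitude h2 hsym (det_plus_unit m) hm (by rw [Fintype.card_sum, Fintype.card_fin]; ring)),
    ← isometry_eq h2 (FormDisc.polar_plus m) (plus_quad m), card_pgsp hm]
  obtain ⟨j, rfl⟩ : ∃ j, m = j + 1 := ⟨m - 1, by omega⟩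
  rw [Classical.OCount.card_GO_plus, mul_assoc, show j = j + 1 - 1 by omega]
  refine not_sp_count hodd Fintype.one_lt_card _ hm _ _ (Nat.Coprime.mul_right ?_ (coprime_prod _ Fintype.one_lt_card _))
  refine Nat.coprime_of_dvd' fun d _ hd1 hd2 => ?_
  have h1 : 1 ≤ Fintype.card F ^ (j + 1 - 1 + 1) := Nat.one_le_pow _ _ Fintype.card_pos
  have h3 := Nat.dvd_sub (hd1.trans (dvd_pow_self _ (by omega : j + 1 - 1 + 1 ≠ 0))) hd2
  rwa [Nat.sub_sub_self h1] at h3

theorem card_orth_minus_ne [Fintype F] (hodd : Odd (Fintype.card F)) (j : ℕ) {a c : F}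
    (hac : ∀ z₁ z₂ : F, z₁ ^ 2 + a * z₁ * z₂ + c * z₂ ^ 2 = 0 → z₁ = 0 ∧ z₂ = 0) :
    Nat.card (Cfsg.projQuot (Sim (FormDisc.Jminus F j a c))) ≠ Nat.card (Cfsg.PGSp (j + 1) F) := by
  have h2 := FormDisc.two_ne rfl hodd (F := F)
  have hu := det_minus_unit h2 j hac
  have hsym : (FormDisc.Jminus F j a c)ᵀ = FormDisc.Jminus F j a c := by
    rw [FormDisc.Jminus, FormDisc.Jplus, Matrix.fromBlocks_transpose, Matrix.fromBlocks_transpose,
      Matrix.transpose_zero, Matrix.transpose_zero, Matrix.transpose_zero, Matrix.transpose_one]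
    congr 1
    ext i j
    fin_cases i <;> fin_cases j <;> simp
  rw [card_projQuot_sim hu
    (exists_similitude h2 hsym hu (m := j + 1) (by omega)
      (by rw [Fintype.card_sum, Fintype.card_sum, Fintype.card_fin, Fintype.card_fin]; ring)),
    ← isometry_eq h2 (FormDisc.polar_minus j a c) (minus_quad j a c), card_pgsp (by omega),
    Classical.OCount.card_GO_minus j a c hac, mul_assoc, show j = j + 1 - 1 by omega]
  refine not_sp_count hodd Fintype.one_lt_card _ (by omega) _ _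
    (Nat.Coprime.mul_right ?_ (coprime_prod _ Fintype.one_lt_card _))
  refine Nat.coprime_of_dvd' fun d _ hd1 hd2 => ?_
  exact (Nat.dvd_add_right (hd1.trans (dvd_pow_self _ (by omega : j + 1 - 1 + 1 ≠ 0)))).1 hd2

end Cfsg.Agent.Small.Gram
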