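import Mathlib
import Cfsg.Prelude.Def_LieTypeDatum

/-!
# Gram matrices up to congruence and scalars, and their groups of similitudes
-/

set_option autoImplicit false
set_option linter.unusedSectionVars false

namespace Cfsg.Agent.Small.Gram

open Matrix

variable {F : Type*} [Field F] {ι κ μ : Type} [Fintype ι] [DecidableEq ι] [Fintype κ] [DecidableEq κ]
  [Fintype μ] [DecidableEq μ]

theorem dot_gram (P : Matrix ι κ F) (B : Matrix ι ι F) (u v : κ → F) :
    u ⬝ᵥ (Pᵀ * B * P) *ᵥ v = (P *ᵥ u) ⬝ᵥ B *ᵥ (P *ᵥ v) := by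
  rw [← Matrix.mulVec_mulVec, ← Matrix.mulVec_mulVec, Matrix.dotProduct_mulVec u Pᵀ, Matrix.vecMul_transpose]

theorem mat_ext_dot {X Y : Matrix ι κ F} (h : ∀ u v, u ⬝ᵥ X *ᵥ v = u ⬝ᵥ Y *ᵥ v) : X = Y := by
  ext i j
  simpa using h (Pi.single i 1) (Pi.single j 1)

theorem gram_mul (P : Matrix ι κ F) (Q : Matrix κ μ F) (B : Matrix ι ι F) :
    (P * Q)ᵀ * B * (P * Q) = Qᵀ * (Pᵀ * B * P) * Q := by
  simp only [Matrix.transpose_mul, Matrix.mul_assoc]

/-- The similitudes of a Gram matrix. -/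
def Sim (B : Matrix ι ι F) : Subgroup (GL ι F) where
  carrier := {g | ∃ c : Fˣ, g.valᵀ * B * g.val = (c : F) • B}
  one_mem' := ⟨1, by simp⟩
  mul_mem' {a b} ha hb := by
    obtain ⟨c, hc⟩ := ha
    obtain ⟨d, hd⟩ := hb
    refine ⟨c * d, ?_⟩
    rw [Units.val_mul, gram_mul, hc, Matrix.mul_smul, Matrix.smul_mul, hd, smul_smul, Units.val_mul]
  inv_mem' {a} ha := by
    obtain ⟨c, hc⟩ := ha
    refine ⟨c⁻¹, ?_⟩
    have h := gram_mul a.val a⁻¹.val B
    rw [Units.mul_inv, Matrix.transpose_one, Matrix.one_mul, Matrix.mul_one, hc, Matrix.mul_smul,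
      Matrix.smul_mul] at h
    conv_rhs => rw [h, smul_smul, Units.val_inv_eq_inv_val, inv_mul_cancel₀ c.ne_zero, one_smul]

/-- The isometries of a Gram matrix. -/
def Iso (B : Matrix ι ι F) : Subgroup (GL ι F) where
  carrier := {g | g.valᵀ * B * g.val = B}
  one_mem' := by simp
  mul_mem' {a b} ha hb := by
    change (a * b).valᵀ * B * (a * b).val = B
    rw [Units.val_mul, gram_mul, show a.valᵀ * B * a.val = B from ha, show b.valᵀ * B * b.val = B from hb]
  inv_mem' {a} ha := by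
    have h := gram_mul a.val a⁻¹.val B
    rw [Units.mul_inv, Matrix.transpose_one, Matrix.one_mul, Matrix.mul_one,
      show a.valᵀ * B * a.val = B from ha] at h
    exact h.symm

theorem mem_sim {B : Matrix ι ι F} {g : GL ι F} :
    g ∈ Sim B ↔ ∃ c : Fˣ, g.valᵀ * B * g.val = (c : F) • B := Iff.rfl

theorem mem_iso {B : Matrix ι ι F} {g : GL ι F} : g ∈ Iso B ↔ g.valᵀ * B * g.val = B := Iff.rfl

theorem iso_le_sim (B : Matrix ι ι F) : Iso B ≤ Sim B := fun g hg => ⟨1, by rw [Units.val_one, one_smul]; exact hg⟩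

theorem scalars_le_sim (B : Matrix ι ι F) : Cfsg.Geo.scalars ι F ≤ Sim B := fun g hg => by
  obtain ⟨s, hs⟩ := (Cfsg.Geo.mem_scalars_iff g).1 hg
  refine ⟨s * s, ?_⟩
  rw [hs]
  simp [smul_smul]

/-- Congruence up to a scalar. -/
def Model (B : Matrix ι ι F) (B₀ : Matrix κ κ F) : Prop :=
  ∃ (M : Matrix ι κ F) (N : Matrix κ ι F) (c : Fˣ), M * N = 1 ∧ N * M = 1 ∧ Mᵀ * B * M = (c : F) • B₀

theorem Model.refl (B : Matrix ι ι F) : Model B B := ⟨1, 1, 1, by simp, by simp, by simp⟩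

theorem Model.symm {B : Matrix ι ι F} {B₀ : Matrix κ κ F} (h : Model B B₀) : Model B₀ B := by
  obtain ⟨M, N, c, hMN, hNM, h⟩ := h
  refine ⟨N, M, c⁻¹, hNM, hMN, ?_⟩
  have e := gram_mul M N B
  rw [hMN, Matrix.transpose_one, Matrix.one_mul, Matrix.mul_one, h, Matrix.mul_smul, Matrix.smul_mul] at e
  conv_rhs => rw [e, smul_smul, Units.val_inv_eq_inv_val, inv_mul_cancel₀ c.ne_zero, one_smul]

theorem Model.trans {B : Matrix ι ι F} {B₀ : Matrix κ κ F} {B₁ : Matrix μ μ F} (h : Model B B₀)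
    (h' : Model B₀ B₁) : Model B B₁ := by
  obtain ⟨M, N, c, hMN, hNM, h⟩ := h
  obtain ⟨M', N', c', hMN', hNM', h'⟩ := h'
  refine ⟨M * M', N' * N, c * c', ?_, ?_, ?_⟩
  · rw [Matrix.mul_assoc, ← Matrix.mul_assoc M', hMN', Matrix.one_mul, hMN]
  · rw [Matrix.mul_assoc, ← Matrix.mul_assoc N, hNM, Matrix.one_mul, hNM']
  · rw [gram_mul, h, Matrix.mul_smul, Matrix.smul_mul, h', smul_smul, Units.val_mul]

theorem model_of_gram {B : Matrix ι ι F} {B₀ : Matrix κ κ F} (P : Matrix ι κ F) {c : F} (hc : c ≠ 0)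
    (h : Pᵀ * B * P = c • B₀) (hB₀ : IsUnit B₀.det) (hcard : Fintype.card ι = Fintype.card κ) :
    Model B B₀ := by
  have hl : (c⁻¹ • (B₀⁻¹ * (Pᵀ * B))) * P = 1 := by
    rw [Matrix.smul_mul, Matrix.mul_assoc, h, Matrix.mul_smul, Matrix.nonsing_inv_mul B₀ hB₀, smul_smul,
      inv_mul_cancel₀ hc, one_smul]
  exact ⟨P, _, Units.mk0 c hc, (Matrix.mul_eq_one_comm_of_equiv (Fintype.equivOfCardEq hcard.symm)).1 hl, hl, h⟩

/-- A matrix is congruent to each of its re-indexings. -/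
theorem model_submatrix (e : ι ≃ κ) {B₀ : Matrix κ κ F} (hB₀ : IsUnit B₀.det) :
    Model (B₀.submatrix e e) B₀ := by
  refine model_of_gram ((1 : Matrix κ κ F).submatrix e id) one_ne_zero ?_ hB₀ (Fintype.card_congr e)
  rw [Matrix.transpose_submatrix, Matrix.transpose_one, Matrix.submatrix_mul_equiv,
    Matrix.submatrix_mul_equiv, Matrix.one_mul, Matrix.mul_one, Matrix.submatrix_id_id, one_smul]

theorem Model.transpose_eq {B : Matrix ι ι F} {B₀ : Matrix κ κ F} (h : Model B B₀) {ε : F}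
    (hs : Bᵀ = ε • B) : B₀ᵀ = ε • B₀ := by
  obtain ⟨M, N, c, -, -, h⟩ := h
  have e := congrArg Matrix.transpose h
  rw [Matrix.transpose_mul, Matrix.transpose_mul, Matrix.transpose_transpose, hs, Matrix.smul_mul,
    Matrix.mul_smul, ← Matrix.mul_assoc, h, Matrix.transpose_smul, smul_comm ε (c : F)] at e
  exact ((IsUnit.smul_left_cancel c.isUnit).1 e).symm

theorem Model.alt_eq {B : Matrix ι ι F} {B₀ : Matrix κ κ F} (h : Model B B₀)
    (hs : ∀ v, v ⬝ᵥ B *ᵥ v = 0) (v : κ → F) : v ⬝ᵥ B₀ *ᵥ v = 0 := by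
  obtain ⟨M, N, c, -, -, h⟩ := h
  have e := dot_gram M B v v
  rw [h, Matrix.smul_mulVec, dotProduct_smul, hs, smul_eq_mul] at e
  exact (mul_eq_zero.1 e).resolve_left c.ne_zero

theorem Model.disc {B : Matrix ι ι F} {B₀ : Matrix κ κ F} (h : Model B B₀) {m : ℕ}
    (hι : Fintype.card ι = 2 * m) (hκ : Fintype.card κ = 2 * m) (hB₀ : IsUnit B₀.det) :
    ∃ d : F, d ≠ 0 ∧ B₀.det = d * d * B.det := by
  obtain ⟨M, N, c, -, -, h⟩ := h
  obtain ⟨e⟩ := Fintype.card_eq.1 (hκ.trans hι.symm)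
  set M₁ := M.submatrix id e.symm with hM₁
  have h' : M₁ᵀ * B * M₁ = (((c : F)) • B₀).submatrix e.symm e.symm := by
    rw [← h, hM₁, Matrix.transpose_submatrix]
    rfl
  have hd := congrArg Matrix.det h'
  rw [Matrix.det_mul, Matrix.det_mul, Matrix.det_transpose, Matrix.det_submatrix_equiv_self,
    Matrix.det_smul, hκ, two_mul, pow_add] at hd
  have hc : (c : F) ^ m ≠ 0 := pow_ne_zero _ c.ne_zero
  refine ⟨M₁.det / (c : F) ^ m, div_ne_zero (fun h0 => ?_) hc, ?_⟩
  · rw [h0, zero_mul, zero_mul] at hd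
    exact mul_ne_zero (mul_ne_zero hc hc) hB₀.ne_zero hd.symm
  · field_simp
    linear_combination -hd

/-- The isomorphism of linear groups given by a change of basis. -/
def changeBasis (M : Matrix ι κ F) (N : Matrix κ ι F) (hMN : M * N = 1) (hNM : N * M = 1) :
    GL ι F ≃* GL κ F :=
  Units.mapEquiv
    { toFun := fun X => N * X * M
      invFun := fun Y => M * Y * N
      left_inv := fun X => by
        simp only [← Matrix.mul_assoc, hMN, Matrix.one_mul]
        rw [Matrix.mul_assoc, hMN, Matrix.mul_one]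
      right_inv := fun Y => by
        simp only [← Matrix.mul_assoc, hNM, Matrix.one_mul]
        rw [Matrix.mul_assoc, hNM, Matrix.mul_one]
      map_mul' := fun X Y => by
        simp only [← Matrix.mul_assoc]
        rw [Matrix.mul_assoc (N * X) M N, hMN, Matrix.mul_one] }

theorem changeBasis_val (M : Matrix ι κ F) (N : Matrix κ ι F) (hMN : M * N = 1) (hNM : N * M = 1)
    (g : GL ι F) : (changeBasis M N hMN hNM g).val = N * g.val * M := rfl

/-- Congruent matrices have conjugate groups of similitudes. -/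
theorem Model.sim_equiv {B : Matrix ι ι F} {B₀ : Matrix κ κ F} (h : Model B B₀) :
    ∃ E : GL ι F ≃* GL κ F, (Sim B).map E.toMonoidHom = Sim B₀ ∧
      (Cfsg.Geo.scalars ι F).map E.toMonoidHom = Cfsg.Geo.scalars κ F ∧
      ∀ g, Matrix.GeneralLinearGroup.det (E g) = Matrix.GeneralLinearGroup.det g := by
  obtain ⟨M, N, c, hMN, hNM, h⟩ := h
  refine ⟨changeBasis M N hMN hNM, ?_, ?_, fun g => ?_⟩
  · ext g
    obtain ⟨g, rfl⟩ := (changeBasis M N hMN hNM).surjective g
    rw [Subgroup.mem_map_equiv, MulEquiv.symm_apply_apply, mem_sim, mem_sim]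
    refine exists_congr fun d => ?_
    have e : (c : F) • ((changeBasis M N hMN hNM g).valᵀ * B₀ * (changeBasis M N hMN hNM g).val) =
        Mᵀ * (g.valᵀ * B * g.val) * M := by
      rw [← Matrix.smul_mul, ← Matrix.mul_smul, ← h, ← gram_mul, ← gram_mul, changeBasis_val,
        show M * (N * g.val * M) = g.val * M by simp only [← Matrix.mul_assoc, hMN, Matrix.one_mul]]
    constructor
    · intro hd
      refine (IsUnit.smul_left_cancel c.isUnit).1 ?_
      rw [e, hd, Matrix.mul_smul, Matrix.smul_mul, h, smul_comm]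
    · intro hd
      rw [hd, smul_comm (c : F) (d : F), ← h] at e
      have e' := congrArg (fun X => Nᵀ * X * N) e
      simp only [Matrix.mul_smul, Matrix.smul_mul] at e'
      simp only [← gram_mul, hMN, Matrix.transpose_one, Matrix.one_mul, Matrix.mul_one] at e'
      rw [Matrix.mul_assoc g.val M N, hMN, Matrix.mul_one] at e'
      exact e'.symm
  · ext g
    obtain ⟨g, rfl⟩ := (changeBasis M N hMN hNM).surjective g
    rw [Subgroup.mem_map_equiv, MulEquiv.symm_apply_apply, Cfsg.Geo.mem_scalars_iff, Cfsg.Geo.mem_scalars_iff]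
    refine exists_congr fun d => ⟨fun hd => ?_, fun hd => ?_⟩
    · rw [changeBasis_val, hd, Matrix.mul_smul, Matrix.mul_one, Matrix.smul_mul, hNM]
    · have e := congrArg (fun X => M * X * N) hd
      rw [changeBasis_val, Matrix.mul_smul, Matrix.mul_one, Matrix.smul_mul, hMN] at e
      simp only [← Matrix.mul_assoc, hMN, Matrix.one_mul] at e
      rwa [Matrix.mul_assoc, hMN, Matrix.mul_one] at e
  · exact Units.ext (Matrix.det_conj_of_mul_eq_one hNM hMN)

/-- Transport of a group modulo scalars. -/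
theorem projQuot_congr (E : GL ι F ≃* GL κ F) {S : Subgroup (GL ι F)} {T : Subgroup (GL κ F)}
    (hS : S.map E.toMonoidHom = T)
    (hZ : (Cfsg.Geo.scalars ι F).map E.toMonoidHom = Cfsg.Geo.scalars κ F) :
    Nonempty (Cfsg.projQuot S ≃* Cfsg.projQuot T) := by
  subst hS
  let e := E.subgroupMap S
  refine ⟨QuotientGroup.congr _ _ e ?_⟩
  ext x
  obtain ⟨y, rfl⟩ := e.surjective x
  change e y ∈ Subgroup.map e.toMonoidHom _ ↔ _
  rw [Subgroup.mem_map_equiv, MulEquiv.symm_apply_apply, Subgroup.mem_subgroupOf]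
  change _ ↔ E y.1 ∈ Cfsg.Geo.scalars κ F
  rw [← hZ, Subgroup.mem_map_equiv, MulEquiv.symm_apply_apply]

theorem Model.projQuot {B : Matrix ι ι F} {B₀ : Matrix κ κ F} (h : Model B B₀) :
    Nonempty (Cfsg.projQuot (Sim B) ≃* Cfsg.projQuot (Sim B₀)) := by
  obtain ⟨E, h1, h2, -⟩ := h.sim_equiv
  exact projQuot_congr E h1 h2

theorem Model.det_image {B : Matrix ι ι F} {B₀ : Matrix κ κ F} (h : Model B B₀) :
    (Sim B).map (Matrix.GeneralLinearGroup.det : GL ι F →* Fˣ) =
      (Sim B₀).map (Matrix.GeneralLinearGroup.det : GL κ F →* Fˣ) := by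
  obtain ⟨E, h1, -, h3⟩ := h.sim_equiv
  rw [← h1, Subgroup.map_map]
  congr 1
  exact MonoidHom.ext fun g => (h3 g).symm

/-- A subgroup meeting the scalars trivially which, with them, exhausts a group. -/
theorem projQuot_equiv {S H : Subgroup (GL ι F)} (hle : H ≤ S)
    (hdec : ∀ g ∈ S, ∃ z ∈ Cfsg.Geo.scalars ι F, ∃ h ∈ H, g = z * h)
    (htriv : ∀ h ∈ H, h ∈ Cfsg.Geo.scalars ι F → h = 1) :
    Nonempty (↥H ≃* Cfsg.projQuot S) := by
  refine ⟨MulEquiv.ofBijective ((QuotientGroup.mk' _).comp (Subgroup.inclusion hle)) ⟨?_, ?_⟩⟩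
  · refine (injective_iff_map_eq_one _).2 fun h hh => ?_
    rw [MonoidHom.comp_apply, QuotientGroup.mk'_apply, QuotientGroup.eq_one_iff, Subgroup.mem_subgroupOf] at hh
    exact Subtype.ext (htriv _ h.2 hh)
  · intro x
    obtain ⟨⟨g, hg⟩, rfl⟩ := QuotientGroup.mk_surjective x
    obtain ⟨z, hz, h, hh, rfl⟩ := hdec g hg
    refine ⟨⟨h, hh⟩, ?_⟩
    rw [MonoidHom.comp_apply, QuotientGroup.mk'_apply, QuotientGroup.eq, Subgroup.mem_subgroupOf]
    change h⁻¹ * (z * h) ∈ _
    obtain ⟨s, hs⟩ := (Cfsg.Geo.mem_scalars_iff z).1 hz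
    have : z * h = h * z := Units.ext (by rw [Units.val_mul, Units.val_mul, hs]; simp)
    rwa [this, inv_mul_cancel_left]

theorem scalars_card [Nonempty ι] : Nat.card (Cfsg.Geo.scalars ι F) = Nat.card Fˣ := by
  refine (Nat.card_congr (Equiv.ofBijective (MonoidHom.rangeRestrict _) ⟨?_, MonoidHom.rangeRestrict_surjective _⟩)).symm
  refine MonoidHom.rangeRestrict_injective_iff.2 ?_
  exact Units.map_injective (f := (Matrix.scalar ι : F →+* Matrix ι ι F).toMonoidHom)
    (fun a b h => Matrix.scalar_inj.1 h)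

/-- The order of a group of similitudes modulo scalars. -/
theorem card_projQuot_sim [Nonempty ι] [Fintype F] {B : Matrix ι ι F} (hB : IsUnit B.det)
    (hmult : ∀ c : Fˣ, ∃ g : GL ι F, g.valᵀ * B * g.val = (c : F) • B) :
    Nat.card (Cfsg.projQuot (Sim B)) = Nat.card (Iso B) := by
  classical
  choose s hs using hmult
  have hB0 : B ≠ 0 := fun h => by simp [h] at hB
  have key : Nat.card (Sim B) = Nat.card Fˣ * Nat.card (Iso B) := by
    rw [← Nat.card_prod]
    refine (Nat.card_congr (Equiv.ofBijective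
      (fun p : Fˣ × Iso B => (⟨s p.1 * p.2.1, mul_mem ⟨p.1, hs p.1⟩ (iso_le_sim B p.2.2)⟩ : Sim B)) ⟨?_, ?_⟩)).symm
    · rintro ⟨c, h⟩ ⟨c', h'⟩ he
      have he' : s c * h.1 = s c' * h'.1 := congrArg Subtype.val he
      have hv : ∀ (d : Fˣ) (k : Iso B), (s d * k.1).valᵀ * B * (s d * k.1).val = (d : F) • B := fun d k => by
        rw [Units.val_mul, gram_mul, hs, Matrix.mul_smul, Matrix.smul_mul, show k.1.valᵀ * B * k.1.val = B from k.2]
      have h1 := hv c h
      rw [he', hv c' h'] at h1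
      have hcc : c = c' := Units.ext (smul_left_injective F hB0 h1).symm
      subst hcc
      rw [mul_right_inj] at he'
      exact Prod.ext rfl (Subtype.ext he')
    · rintro ⟨g, c, hg⟩
      refine ⟨(c, ⟨(s c)⁻¹ * g, ?_⟩), Subtype.ext (mul_inv_cancel_left (s c) g)⟩
      have e := gram_mul (s c).val ((s c)⁻¹ * g).val B
      rw [← Units.val_mul, mul_inv_cancel_left, hg, hs, Matrix.mul_smul, Matrix.smul_mul] at e
      exact ((IsUnit.smul_left_cancel c.isUnit).1 e).symm
  have h2 := Subgroup.card_eq_card_quotient_mul_card_subgroup ((Cfsg.Geo.scalars ι F).subgroupOf (Sim B))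
  rw [Nat.card_congr (Subgroup.subgroupOfEquivOfLe (scalars_le_sim B)).toEquiv, scalars_card, key,
    mul_comm (Nat.card Fˣ)] at h2
  exact Nat.eq_of_mul_eq_mul_right Nat.card_pos h2.symm

end Cfsg.Agent.Small.Gram
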