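import Cfsg.Agent.Lib.Small.Gram.Standard
import Cfsg.Agent.Lib.Small.SymFormsTwo
import Cfsg.Agent.Lib.Small.SpInvolMatrix
import Cfsg.Agent.Lib.Classical.OrthCharTwoSp

/-!
# Symmetric Gram matrices in characteristic two
-/

set_option autoImplicit false
set_option linter.unusedSectionVars false

namespace Cfsg.Agent.Small.Gram

open Matrix Module Cfsg.Agent.Small

universe u

variable {F : Type u} [Field F] [Fintype F] [CharP F 2] {ι κ : Type} [Fintype ι] [DecidableEq ι] [Fintype κ]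
  [DecidableEq κ]

theorem exists_sqrt (c : Fˣ) : ∃ s : Fˣ, s * s = c := by
  obtain ⟨r, hr⟩ := FiniteField.isSquare_of_char_two (ringChar.eq F 2) (c : F)
  have hr0 : r ≠ 0 := fun h => c.ne_zero (by rw [hr, h, zero_mul])
  exact ⟨Units.mk0 r hr0, Units.ext hr.symm⟩

theorem eq_one_of_mul_self {s : Fˣ} (h : s * s = 1) : s = 1 :=
  Units.ext (SymFormsTwo.sq_inj (by rw [pow_two, ← Units.val_mul, h]; simp))

/-- A scalar matrix as a unit. -/
def scal (s : Fˣ) : GL ι F := Units.map (Matrix.scalar ι : F →+* Matrix ι ι F).toMonoidHom s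

theorem scal_val (s : Fˣ) : (scal (ι := ι) s).val = (s : F) • 1 := by
  rw [Matrix.smul_one_eq_diagonal]
  rfl

theorem twoQuot [Nonempty ι] {B : Matrix ι ι F} (hB : IsUnit B.det) :
    Nonempty (↥(Iso B) ≃* Cfsg.projQuot (Sim B)) := by
  have hB0 : B ≠ 0 := fun h => by simp [h] at hB
  refine projQuot_equiv (iso_le_sim B) (fun g hg => ?_) (fun h hh hz => ?_)
  · obtain ⟨c, hc⟩ := hg
    obtain ⟨s, rfl⟩ := exists_sqrt c
    refine ⟨scal s, ⟨s, rfl⟩, (scal s)⁻¹ * g, ?_, (mul_inv_cancel_left _ _).symm⟩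
    have e := gram_mul (scal s).val ((scal s)⁻¹ * g).val B
    rw [← Units.val_mul, mul_inv_cancel_left, hc, scal_val] at e
    simp only [Matrix.transpose_smul, Matrix.transpose_one, Matrix.smul_mul, Matrix.mul_smul, smul_smul,
      Matrix.one_mul, Matrix.mul_one, Units.val_mul] at e
    exact ((IsUnit.smul_left_cancel (s.isUnit.mul s.isUnit)).1 e).symm
  · obtain ⟨s, hs⟩ := (Cfsg.Geo.mem_scalars_iff h).1 hz
    have e : h.valᵀ * B * h.val = B := hh
    rw [hs] at e
    simp only [Matrix.transpose_smul, Matrix.transpose_one, Matrix.smul_mul, Matrix.mul_smul, smul_smul,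
      Matrix.one_mul, Matrix.mul_one] at e
    have e' : ((s : F) * s) • B = (1 : F) • B := by rw [one_smul]; exact e
    have h1 := eq_one_of_mul_self (s := s) (Units.ext (smul_left_injective F hB0 e'))
    exact Units.ext (by rw [hs, h1, Units.val_one, one_smul, Units.val_one])

theorem twoQuad (q : (ι → F) → F) (hq : ∀ (c : F) v, q (c • v) = c ^ 2 * q v) (hne : ∃ v, q v ≠ 0) :
    Nonempty (↥(Cfsg.isometryGroup F q) ≃* Cfsg.projQuot (Cfsg.Geo.quadSimilarityGroup q)) := by
  have hle : Cfsg.isometryGroup F q ≤ Cfsg.Geo.quadSimilarityGroup q := fun g hg =>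
    ⟨1, fun v => by rw [Units.val_one, one_mul]; exact hg v v⟩
  refine projQuot_equiv hle (fun g hg => ?_) (fun h hh hz => ?_)
  · obtain ⟨c, hc⟩ := hg
    obtain ⟨s, rfl⟩ := exists_sqrt c
    refine ⟨scal s, ⟨s, rfl⟩, (scal s)⁻¹ * g, fun u _ => ?_, (mul_inv_cancel_left _ _).symm⟩
    have e := hc u
    rw [← mul_inv_cancel_left (scal s) g, Units.val_mul, ← Matrix.mulVec_mulVec, scal_val, Matrix.smul_mulVec,
      Matrix.one_mulVec, hq, Units.val_mul, ← pow_two] at e
    exact mul_left_cancel₀ (pow_ne_zero 2 s.ne_zero) e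
  · obtain ⟨s, hs⟩ := (Cfsg.Geo.mem_scalars_iff h).1 hz
    obtain ⟨v, hv⟩ := hne
    have e : q (h.val *ᵥ v) = q v := hh v v
    rw [hs, Matrix.smul_mulVec, Matrix.one_mulVec, hq] at e
    have h1 := eq_one_of_mul_self (s := s)
      (Units.ext (mul_right_cancel₀ hv (show ((s : F) * s) * q v = 1 * q v by rw [one_mul, ← pow_two, e])))
    exact Units.ext (by rw [hs, h1, Units.val_one, one_smul, Units.val_one])

theorem bil_symm {X : Matrix ι ι F} (hX : Xᵀ = X) (x y : ι → F) :
    Matrix.toLinearMap₂' F X x y = Matrix.toLinearMap₂' F X y x := by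
  rw [Matrix.toLinearMap₂'_apply', Matrix.toLinearMap₂'_apply', dot_symm hX]

theorem bil_nondeg {X : Matrix ι ι F} (hX : IsUnit X.det) (x : ι → F)
    (hx : ∀ y : ι → F, Matrix.toLinearMap₂' F X x y = (0 : F)) : x = 0 :=
  Matrix.eq_zero_of_vecMul_eq_zero hX.ne_zero (funext fun j => by
    have h := hx (Pi.single j 1)
    rw [Matrix.toLinearMap₂'_apply', Matrix.dotProduct_mulVec, dotProduct_single, mul_one] at h
    exact h)

theorem two_model {B : Matrix ι ι F} {B' : Matrix κ κ F} (hs : Bᵀ = B) (hB : IsUnit B.det) (hs' : B'ᵀ = B')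
    (hB' : IsUnit B'.det) (hc : Fintype.card ι = Fintype.card κ)
    (ha : (∀ v, v ⬝ᵥ B *ᵥ v = 0) ↔ ∀ v, v ⬝ᵥ B' *ᵥ v = 0) : Model B B' := by
  obtain ⟨μ, hμ, hμd, N, hcard, hN, -, hall⟩ := SymFormsTwo.exists_normal (bil_symm hs) (bil_nondeg hB)
  letI := hμ
  letI := hμd
  rw [finrank_fintype_fun_eq_card] at hcard
  have h1 := (hall (Matrix.toLinearMap₂' F B) (bil_symm hs) (bil_nondeg hB) rfl Iff.rfl).2.2.2
  have h2 := (hall (Matrix.toLinearMap₂' F B') (bil_symm hs') (bil_nondeg hB')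
    (by rw [finrank_fintype_fun_eq_card, finrank_fintype_fun_eq_card, hc])
    (by simp only [Matrix.toLinearMap₂'_apply']; exact ha.symm)).2.2.2
  obtain ⟨⟨f⟩, -⟩ := Nat.card_pos_iff.1 h1
  obtain ⟨⟨f'⟩, -⟩ := Nat.card_pos_iff.1 h2
  have key : ∀ {ν : Type} [Fintype ν] [DecidableEq ν] (X : Matrix ν ν F)
      (g : SymFormsTwo.Tup (Matrix.toLinearMap₂' F X) N),
      (Matrix.of fun i j => g.1 j i)ᵀ * X * (Matrix.of fun i j => g.1 j i) = N := fun {ν} _ _ X g => by
    ext i j
    have h := g.2 i j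
    rw [Matrix.toLinearMap₂'_apply'] at h
    rw [← h, Matrix.mul_assoc, Matrix.mul_apply_eq_vecMul]
    rfl
  exact (model_of_gram _ one_ne_zero (by rw [one_smul]; exact key B f) hN hcard.symm).trans
    (model_of_gram _ one_ne_zero (by rw [one_smul]; exact key B' f') hN (hc.symm.trans hcard.symm)).symm

/-- An isometry fixes the vector representing the diagonal and the functional it gives. -/
theorem fix_diag {B : Matrix ι ι F} (hB : IsUnit B.det) {ξ w : ι → F} (hξ : B *ᵥ ξ = w)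
    (hd : ∀ x, x ⬝ᵥ B *ᵥ x = (x ⬝ᵥ w) ^ 2) {g : Matrix ι ι F} (hg : gᵀ * B * g = B) :
    w ᵥ* g = w ∧ g *ᵥ ξ = ξ := by
  have h1 : w ᵥ* g = w := funext fun i => by
    have e := dot_gram g B (Pi.single i 1) (Pi.single i 1)
    rw [hg, hd, hd] at e
    have e' := SymFormsTwo.sq_inj e
    rw [single_dotProduct, one_mul, dotProduct_comm, Matrix.dotProduct_mulVec, dotProduct_single, mul_one] at e'
    exact e'.symm
  refine ⟨h1, ?_⟩
  have hgu : IsUnit g.det := by
    have e := congrArg Matrix.det hg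
    rw [Matrix.det_mul, Matrix.det_mul] at e
    exact isUnit_iff_ne_zero.2 fun h0 => hB.ne_zero (by rw [← e, h0, mul_zero])
  have e : gᵀ *ᵥ (B *ᵥ (g *ᵥ ξ)) = gᵀ *ᵥ (B *ᵥ ξ) := by
    rw [hξ, Matrix.mulVec_transpose g w, h1, Matrix.mulVec_mulVec, Matrix.mulVec_mulVec, hg, hξ]
  have e2 := (Matrix.mulVec_injective_iff_isUnit.2 ((Matrix.isUnit_iff_isUnit_det _).2
    (by rwa [Matrix.det_transpose]))) e
  exact (Matrix.mulVec_injective_iff_isUnit.2 ((Matrix.isUnit_iff_isUnit_det _).2 hB)) e2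

theorem J_alt (k : ℕ) (v : Fin k ⊕ Fin k → F) : v ⬝ᵥ Matrix.J (Fin k) F *ᵥ v = 0 := by
  rw [← Classical.SpCount.stdForm_apply]
  exact (Classical.SpCount.stdForm_isAltND k).self v

theorem J_symm (k : ℕ) : (Matrix.J (Fin k) F)ᵀ = Matrix.J (Fin k) F := by
  rw [Matrix.J_transpose]
  ext i j
  rw [Matrix.neg_apply, CharTwo.neg_eq]

/-! ### Odd dimension -/

theorem oddMat_det (k : ℕ) : IsUnit (SymFormsTwo.oddMat (F := F) k).det := by
  rw [SymFormsTwo.oddMat, Matrix.det_fromBlocks_zero₂₁, Matrix.det_one, mul_one]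
  exact Matrix.isUnit_det_J _ _

theorem oddMat_symm (k : ℕ) : (SymFormsTwo.oddMat (F := F) k)ᵀ = SymFormsTwo.oddMat k := by
  rw [SymFormsTwo.oddMat, Matrix.fromBlocks_transpose, Matrix.transpose_zero, Matrix.transpose_zero,
    Matrix.transpose_one, J_symm]

theorem oddMat_diag (k : ℕ) (x : (Fin k ⊕ Fin k) ⊕ Fin 1 → F) :
    x ⬝ᵥ SymFormsTwo.oddMat k *ᵥ x = (x ⬝ᵥ Pi.single (.inr 0) 1) ^ 2 := by
  rw [dotProduct_single, mul_one, SymFormsTwo.oddMat, Matrix.fromBlocks_mulVec]
  conv_lhs => rw [← Sum.elim_comp_inl_inr x]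
  rw [sumElim_dotProduct_sumElim]
  simp only [Sum.elim_comp_inl, Sum.elim_comp_inr, Matrix.zero_mulVec, add_zero, zero_add, Matrix.one_mulVec,
    J_alt]
  simp [dotProduct, pow_two]

theorem isoOdd_equiv (k : ℕ) :
    Nonempty (↥(Matrix.symplecticGroup (Fin k) F) ≃* ↥(Iso (SymFormsTwo.oddMat (F := F) k))) := by
  have hu : ∀ A : ↥(Matrix.symplecticGroup (Fin k) F),
      IsUnit (Matrix.fromBlocks A.1 0 0 (1 : Matrix (Fin 1) (Fin 1) F)).det := fun A => by
    rw [Matrix.det_fromBlocks_zero₂₁, SymplecticClasses.det_eq_one A, Matrix.det_one, mul_one]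
    exact isUnit_one
  let φ : ↥(Matrix.symplecticGroup (Fin k) F) →* ↥(Iso (SymFormsTwo.oddMat (F := F) k)) :=
    MonoidHom.mk' (fun A => ⟨Matrix.nonsingInvUnit _ (hu A), by
      change (Matrix.fromBlocks A.1 0 0 1)ᵀ * SymFormsTwo.oddMat k * Matrix.fromBlocks A.1 0 0 1 =
        SymFormsTwo.oddMat k
      rw [SymFormsTwo.oddMat, Matrix.fromBlocks_transpose, Matrix.fromBlocks_multiply, Matrix.fromBlocks_multiply]
      simp [SymplecticGroup.mem_iff'.1 A.2]⟩)
      fun A A' => Subtype.ext (Units.ext (by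
        change Matrix.fromBlocks (A.1 * A'.1) 0 0 1 = Matrix.fromBlocks A.1 0 0 1 * Matrix.fromBlocks A'.1 0 0 1
        simp [Matrix.fromBlocks_multiply]))
  refine ⟨MulEquiv.ofBijective φ ⟨fun A A' h => ?_, fun g => ?_⟩⟩
  · have e : Matrix.fromBlocks A.1 0 0 (1 : Matrix (Fin 1) (Fin 1) F) = Matrix.fromBlocks A'.1 0 0 1 :=
      congrArg (fun g => g.1.val) h
    exact Subtype.ext (Matrix.fromBlocks_inj.1 e).1
  · obtain ⟨h1, h2⟩ := fix_diag (oddMat_det k) (ξ := Pi.single (.inr 0) 1) (w := Pi.single (.inr 0) 1)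
      (by
        rw [Matrix.mulVec_single_one]
        funext i
        rcases i with i | i
        · simp [SymFormsTwo.oddMat, Matrix.fromBlocks]
        · simp [SymFormsTwo.oddMat, Matrix.fromBlocks, Subsingleton.elim i 0])
      (oddMat_diag k) (g := g.1.val) g.2
    rw [Matrix.single_one_vecMul] at h1
    rw [Matrix.mulVec_single_one] at h2
    have hg : g.1.val = Matrix.fromBlocks g.1.val.toBlocks₁₁ 0 0 1 := by
      conv_lhs => rw [← Matrix.fromBlocks_toBlocks g.1.val]
      congr 1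
      · ext i j
        have := congrFun h2 (.inl i)
        rw [Subsingleton.elim j 0]
        simpa [Matrix.toBlocks₁₂] using this
      · ext i j
        have := congrFun h1 (.inl j)
        rw [Subsingleton.elim i 0]
        simpa [Matrix.toBlocks₂₁] using this
      · ext i j
        have := congrFun h2 (.inr 0)
        rw [Subsingleton.elim i 0, Subsingleton.elim j 0]
        simpa [Matrix.toBlocks₂₂] using this
    obtain ⟨A, hA⟩ : ∃ A, g.1.val = Matrix.fromBlocks A 0 0 1 := ⟨_, hg⟩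
    have e : g.1.valᵀ * SymFormsTwo.oddMat k * g.1.val = SymFormsTwo.oddMat k := g.2
    rw [hA, SymFormsTwo.oddMat, Matrix.fromBlocks_transpose, Matrix.fromBlocks_multiply,
      Matrix.fromBlocks_multiply, Matrix.fromBlocks_inj] at e
    refine ⟨⟨A, SymplecticGroup.mem_iff'.2 (by simpa using e.1)⟩, Subtype.ext (Units.ext ?_)⟩
    exact hA.symm

/-! ### The non-alternating form in even dimension -/

variable {m : ℕ} [NeZero m]

/-- The matrix `J + E`, `E` a diagonal matrix unit. -/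
def Bp (F : Type*) [Field F] (m : ℕ) [NeZero m] : Matrix (Fin m ⊕ Fin m) (Fin m ⊕ Fin m) F :=
  Matrix.J (Fin m) F + Matrix.single (.inr 0) (.inr 0) 1

/-- A symplectic transvection. -/
def tv (F : Type*) [Field F] [Fintype F] [CharP F 2] (m : ℕ) [NeZero m] : Matrix.symplecticGroup (Fin m) F :=
  SpInvolMatrix.upper (Matrix.diagonal (Pi.single 0 1)) (Matrix.isSymm_diagonal _)

theorem tv_sub : (tv F m).1 - 1 = Matrix.single (.inl 0) (.inr 0) 1 := by
  rw [sub_eq_iff_eq_add]
  ext (i | i) (j | j) <;>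
    simp [tv, SpInvolMatrix.upper, Matrix.single_apply, Matrix.one_apply, Matrix.diagonal_apply, Pi.single_apply,
      eq_comm]
  by_cases h : i = j
  · simp [h]
  · simp only [h, if_false]; grind

theorem tv_transvection : Cfsg.IsTransvection ((tv F m : Matrix.symplecticGroup (Fin m) F) :
    Matrix (Fin m ⊕ Fin m) (Fin m ⊕ Fin m) F) := by
  classical
  refine ⟨?_, ?_⟩
  · rw [tv, SpInvolMatrix.upper_rank, Matrix.rank_diagonal, Fintype.card_eq_one_iff]
    exact ⟨⟨0, by simp⟩, fun ⟨i, hi⟩ => Subtype.ext (by by_contra h; simp [Pi.single_apply, h] at hi)⟩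
  · rw [tv_sub, Matrix.single_mul_single_of_ne]
    simp

theorem Bp_diag (x : Fin m ⊕ Fin m → F) : x ⬝ᵥ Bp F m *ᵥ x = (x ⬝ᵥ Pi.single (.inr 0) 1) ^ 2 := by
  rw [Bp, Matrix.add_mulVec, dotProduct_add, J_alt, zero_add, dotProduct_single, mul_one, Matrix.single_mulVec]
  simp [dotProduct, pow_two, Fintype.sum_sum_type, Function.update_apply]

theorem Bp_xi : Bp F m *ᵥ Pi.single (.inl 0) 1 = Pi.single (.inr 0) 1 := by
  rw [Matrix.mulVec_single_one]
  funext i
  rcases i with i | i <;> simp [Bp, Matrix.J, Matrix.single_apply, Matrix.one_apply, Pi.single_apply]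

theorem Bp_symm : (Bp F m)ᵀ = Bp F m := by
  rw [Bp, Matrix.transpose_add, J_symm, Matrix.transpose_single]

theorem Bp_det : IsUnit (Bp F m).det := by
  rw [← Matrix.isUnit_iff_isUnit_det, ← Matrix.mulVec_injective_iff_isUnit]
  refine (injective_iff_map_eq_zero (Bp F m).mulVecLin).2 fun x hx => ?_
  change Bp F m *ᵥ x = 0 at hx
  have h0 : x (.inr 0) = 0 := by
    have e := dot_symm (Bp_symm (F := F) (m := m)) (Pi.single (.inl 0) 1) x
    rw [hx, dotProduct_zero, Bp_xi, dotProduct_single, mul_one] at e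
    exact e.symm
  rw [Bp, Matrix.add_mulVec, Matrix.single_mulVec, h0, mul_zero] at hx
  have : Matrix.J (Fin m) F *ᵥ x = 0 := by simpa [Pi.single_apply, funext_iff] using hx
  exact Matrix.eq_zero_of_mulVec_eq_zero (Matrix.isUnit_det_J _ _).ne_zero this

theorem Bp_not_alt : ¬ ∀ v : Fin m ⊕ Fin m → F, v ⬝ᵥ Bp F m *ᵥ v = 0 := fun h => by
  have e := h (Pi.single (.inr 0) 1)
  rw [Bp_diag, dotProduct_single, mul_one, Pi.single_eq_same, one_pow] at e
  exact one_ne_zero e

theorem single_col_row {A : Matrix (Fin m ⊕ Fin m) (Fin m ⊕ Fin m) F} (i j : Fin m ⊕ Fin m) :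
    (A * (Matrix.single (Sum.inl 0) (Sum.inr 0) 1 : Matrix (Fin m ⊕ Fin m) (Fin m ⊕ Fin m) F)) i j =
        (if j = .inr 0 then A i (.inl 0) else 0) ∧
      ((Matrix.single (Sum.inl 0) (Sum.inr 0) 1 : Matrix (Fin m ⊕ Fin m) (Fin m ⊕ Fin m) F) * A) i j =
        (if i = .inl 0 then A (.inr 0) j else 0) := by
  constructor
  · by_cases h : j = .inr 0
    · subst h
      simp
    · simp [h, Matrix.mul_single_apply_of_ne]
  · by_cases h : i = .inl 0
    · subst h
      simp
    · simp [h, Matrix.single_mul_apply_of_ne]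

theorem mem_iso_Bp (A : Matrix (Fin m ⊕ Fin m) (Fin m ⊕ Fin m) F) :
    Aᵀ * Bp F m * A = Bp F m ↔
      Aᵀ * Matrix.J (Fin m) F * A = Matrix.J (Fin m) F ∧ A * (tv F m).1 = (tv F m).1 * A := by
  have hcomm : A * (tv F m).1 = (tv F m).1 * A ↔
      A * Matrix.single (.inl 0) (.inr 0) 1 = Matrix.single (.inl 0) (.inr 0) 1 * A := by
    rw [← tv_sub, mul_sub, sub_mul, Matrix.mul_one, Matrix.one_mul, sub_left_inj]
  have hE : Pi.single (.inr 0) 1 ᵥ* A = Pi.single (.inr 0) 1 →
      Aᵀ * Matrix.single (.inr 0) (.inr 0) 1 * A = Matrix.single (.inr 0) (.inr 0) 1 := fun h => by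
    rw [Matrix.single_one_vecMul] at h
    ext i j
    have hi := congrFun h i
    have hj := congrFun h j
    simp only [Matrix.row_apply] at hi hj
    simp [Matrix.mul_apply, Matrix.single_apply, Matrix.transpose_apply, Finset.sum_ite_eq, ite_and, hi, hj,
      Pi.single_apply, eq_comm]
  constructor
  · intro h
    obtain ⟨h1, h2⟩ := fix_diag (Bp_det (F := F) (m := m)) Bp_xi Bp_diag h
    have e := hE h1
    rw [Bp, Matrix.mul_add, Matrix.add_mul, e, add_left_inj] at h
    refine ⟨h, hcomm.2 (Matrix.ext fun i j => ?_)⟩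
    rw [(single_col_row i j).1, (single_col_row i j).2]
    rw [Matrix.single_one_vecMul] at h1
    rw [Matrix.mulVec_single_one] at h2
    have hr := congrFun h1 j
    have hc := congrFun h2 i
    simp only [Matrix.row_apply, Matrix.col_apply] at hr hc
    rw [hr, hc]
    simp only [Pi.single_apply]
    split_ifs <;> rfl
  · rintro ⟨hJ, hA⟩
    have hA' := hcomm.1 hA
    have ent : ∀ i j, (if j = (.inr 0 : Fin m ⊕ Fin m) then A i (.inl 0) else 0) =
        (if i = (.inl 0 : Fin m ⊕ Fin m) then A (.inr 0) j else 0) := fun i j => by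
      rw [← (single_col_row i j).1, ← (single_col_row i j).2, hA']
    have hcol : A *ᵥ Pi.single (.inl 0) 1 = A (.inl 0) (.inl 0) • Pi.single (.inl 0) 1 := funext fun i => by
      rw [Matrix.mulVec_single_one, Matrix.col_apply, Pi.smul_apply, Pi.single_apply, smul_eq_mul, mul_ite,
        mul_one, mul_zero]
      have e := ent i (.inr 0)
      rw [if_pos rfl] at e
      by_cases hi : i = .inl 0
      · rw [if_pos hi, hi]
      · rw [if_neg hi] at e ⊢
        exact e
    have hqp : A (.inr 0) (.inr 0) = A (.inl 0) (.inl 0) := by simpa using (ent (.inl 0) (.inr 0)).symm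
    have hone : A (.inl 0) (.inl 0) = 1 := by
      have e := dot_gram A (Matrix.J (Fin m) F) (Pi.single (.inl 0) 1) (Pi.single (.inr 0) 1)
      rw [hJ, hcol] at e
      have hJq : Pi.single (.inl 0) 1 ᵥ* Matrix.J (Fin m) F = Pi.single (.inr 0) 1 := by
        rw [Matrix.single_one_vecMul]
        funext i
        rcases i with i | i <;> simp [Matrix.J, Matrix.one_apply, Pi.single_apply, eq_comm, CharTwo.neg_eq]
      rw [smul_dotProduct, Matrix.dotProduct_mulVec, Matrix.dotProduct_mulVec, hJq, Matrix.mulVec_single_one,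
        single_dotProduct, single_dotProduct, one_mul, one_mul, Matrix.col_apply, Pi.single_eq_same, smul_eq_mul,
        hqp] at e
      exact SymFormsTwo.sq_inj (by rw [one_pow, pow_two]; exact e.symm)
    have hrow : Pi.single (.inr 0) 1 ᵥ* A = Pi.single (.inr 0) 1 := funext fun j => by
      rw [Matrix.single_one_vecMul, Matrix.row_apply, Pi.single_apply]
      have e := ent (.inl 0) j
      rw [if_pos rfl, hone] at e
      exact e.symm
    rw [Bp, Matrix.mul_add, Matrix.add_mul, hJ, hE hrow]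

theorem isoBp_equiv :
    Nonempty (↥(Iso (Bp F m)) ≃*
      ↥(Subgroup.centralizer ({tv F m} : Set ↥(Matrix.symplecticGroup (Fin m) F)))) := by
  let φ : ↥(Iso (Bp F m)) →* ↥(Subgroup.centralizer ({tv F m} : Set ↥(Matrix.symplecticGroup (Fin m) F))) :=
    MonoidHom.mk' (fun g => ⟨⟨g.1.val, SymplecticGroup.mem_iff'.2 ((mem_iso_Bp _).1 g.2).1⟩, by
      rw [Subgroup.mem_centralizer_singleton_iff]
      exact Subtype.ext ((mem_iso_Bp _).1 g.2).2⟩) fun _ _ => rfl
  refine ⟨MulEquiv.ofBijective φ ⟨fun g h e => Subtype.ext (Units.ext (congrArg (fun x => x.1.1) e)), fun A => ?_⟩⟩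
  have hd : IsUnit (A.1.1).det := by rw [SymplecticClasses.det_eq_one A.1]; exact isUnit_one
  refine ⟨⟨Matrix.nonsingInvUnit A.1.1 hd, (mem_iso_Bp A.1.1).2 ⟨SymplecticGroup.mem_iff'.1 A.1.2, ?_⟩⟩, rfl⟩
  exact congrArg Subtype.val (Subgroup.mem_centralizer_singleton_iff.1 A.2)

end Cfsg.Agent.Small.Gram
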